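import Mathlib

/-!
# The field with 25 elements, computably

An explicit model `F25 = F₅[s]`, `s² = 2`, of the field with 25 elements, with decidable equality,
so that matrix computations over it can be checked by `decide`.
-/

set_option autoImplicit false

namespace Cfsg.Agent.Helper9.U35

/-- the field with 25 elements: `re + im * s` with `s² = 2`. -/
structure F25 : Type where
  /-- the rational part. -/
  re : Fin 5
  /-- the coefficient of `s`. -/
  im : Fin 5
  deriving DecidableEq, Fintype

namespace F25

instance : Add F25 := ⟨fun x y => ⟨x.re + y.re, x.im + y.im⟩⟩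
instance : Mul F25 := ⟨fun x y => ⟨x.re * y.re + 2 * (x.im * y.im), x.re * y.im + x.im * y.re⟩⟩
instance : Zero F25 := ⟨⟨0, 0⟩⟩
instance : One F25 := ⟨⟨1, 0⟩⟩
instance : Neg F25 := ⟨fun x => ⟨-x.re, -x.im⟩⟩

/-- the conjugate `re - im * s`. -/
def conj (x : F25) : F25 := ⟨x.re, -x.im⟩

/-- the norm `re² - 2 im²`, in the prime field. -/
def nrm (x : F25) : Fin 5 := x.re * x.re - 2 * (x.im * x.im)

/-- the inverse of an element of the prime field (`t⁻¹ = t³`). -/
def inv5 (t : Fin 5) : Fin 5 := t * t * t

/-- inversion: `x⁻¹ = conj x / nrm x`. -/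
instance : Inv F25 := ⟨fun x => ⟨x.re * inv5 (nrm x), -x.im * inv5 (nrm x)⟩⟩

set_option maxRecDepth 100000 in
theorem add_assoc' : ∀ a b c : F25, a + b + c = a + (b + c) := by decide +kernel
theorem zero_add' : ∀ a : F25, 0 + a = a := by decide +kernel
theorem add_zero' : ∀ a : F25, a + 0 = a := by decide +kernel
theorem add_comm' : ∀ a b : F25, a + b = b + a := by decide +kernel
theorem neg_add_cancel' : ∀ a : F25, -a + a = 0 := by decide +kernel
set_option maxRecDepth 100000 in
theorem mul_assoc' : ∀ a b c : F25, a * b * c = a * (b * c) := by decide +kernel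
theorem one_mul' : ∀ a : F25, 1 * a = a := by decide +kernel
theorem mul_one' : ∀ a : F25, a * 1 = a := by decide +kernel
set_option maxRecDepth 100000 in
theorem left_distrib' : ∀ a b c : F25, a * (b + c) = a * b + a * c := by decide +kernel
set_option maxRecDepth 100000 in
theorem right_distrib' : ∀ a b c : F25, (a + b) * c = a * c + b * c := by decide +kernel
theorem zero_mul' : ∀ a : F25, 0 * a = 0 := by decide +kernel
theorem mul_zero' : ∀ a : F25, a * 0 = 0 := by decide +kernel
theorem mul_comm' : ∀ a b : F25, a * b = b * a := by decide +kernel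
theorem mul_inv_cancel' : ∀ a : F25, a ≠ 0 → a * a⁻¹ = 1 := by decide +kernel

instance instField : Field F25 where
  add := (· + ·)
  add_assoc := add_assoc'
  zero := 0
  zero_add := zero_add'
  add_zero := add_zero'
  nsmul := nsmulRec
  neg := Neg.neg
  zsmul := zsmulRec
  neg_add_cancel := neg_add_cancel'
  add_comm := add_comm'
  mul := (· * ·)
  left_distrib := left_distrib'
  right_distrib := right_distrib'
  zero_mul := zero_mul'
  mul_zero := mul_zero'
  mul_assoc := mul_assoc'
  one := 1
  one_mul := one_mul'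
  mul_one := mul_one'
  npow := npowRec
  mul_comm := mul_comm'
  inv := Inv.inv
  exists_pair_ne := ⟨0, 1, by decide⟩
  mul_inv_cancel := mul_inv_cancel'
  inv_zero := by decide
  nnqsmul := _
  nnqsmul_def := fun _ _ => rfl
  qsmul := _
  qsmul_def := fun _ _ => rfl

theorem card_eq : Fintype.card F25 = 25 := by decide

theorem pow_five : ∀ a : F25, a ^ 5 = conj a := by decide +kernel

/-- decoding of the numbers `0, …, 24`: `n ↦ (n % 5) + (n / 5) s`. -/
def ofN (n : ℕ) : F25 := ⟨⟨n % 5, Nat.mod_lt _ (by norm_num)⟩, ⟨(n / 5) % 5, Nat.mod_lt _ (by norm_num)⟩⟩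

end F25

end Cfsg.Agent.Helper9.U35
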