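import Mathlib.Data.Nat.Notation

/-! generated labelled Todd-Coxeter certificate data (part): A2 -/

set_option autoImplicit false
set_option Elab.async false
set_option maxRecDepth 1000000

namespace Cfsg.Agent.Helper9.U35.A2

def tb2_0 : List (List ℕ) := [[0x27005c5b00001f00638b00001b00713400001a00020e00001d006a1d00001d006a1f000022006e5e00001a00020400002b0070bf0000270070d700002e00058100002e00057e000015000197000018006b18000022006b1600002c006b61000027006c45000027006c4400001400019100002a005c5a0000290070d600002b006ddf00001300018d00001300018e00002600703b00002600703a00002d00704300002500709200001100016d00001100016e00002500708a00002500708b00002600709300002d0004e00000240000cd0000240000cc0000180000c600001d0067cc0000230000c50000170067ca0000230062bd0000230062bc00000f0000c300002b0069e30000170069bc0000240000c400001200653f00001200654100000e0000bf000029006e5f00002c0002cf000028006b170000210067a10000210067a000001b0067a300001100697b00001f00713d00000d0000b2000019006fc0000019006fbe00002b00028e000019006fb800001e00711d00000c0000a800000b0000a100000b0000a200002a00638a000010006f0c00000d00714300002100713c00001500712900001500712b00000b00009500001300712d00000c00711e00002000711c000029006a1e000029006a1c0000240067cd00001500008a00001c000089000016006f4100001c00681300001c00681200001100678d00000a000087000016006f4400001d00008800001700667900001700667b00000a0000850000210067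a200001a00712f00002a00713500001a006a1300001a006a1200002900020500000900008300002a00020f00001b00712e000020006fbf000020006fc1000020006fb900000f006fb200000900007b0000130070190000080065f90000080065fb000028006b190000240000c7000012006e7000000800007400001b00667a00001b00667800001600006900000800006a0000240067cb0000230069bd000016006f43000016006f4200000700006700001700006800001d006f4000001c006f4500001e00712a00001e00712800001d00008b000028000196000014000063000007000064000014006bc1000014006bc0000010006bc300002700019000000700006100001500006200002600018f00002600018c00001e00712c00000600005f00001900701800000900709500002200654000002200653e00000600005d00000b006f1b000008006e73000018006e7100002500016f00002500016c00002100697a00001c00678c00000600005700000e006f5c00000d006bcd00000d006bcf00001f006f0d000014006bc200000f00003500000500003600000c0062c700000c0062c9000019006fb30000230000c200000500003300001000003400000400002f000004000030000009006dbb0000220000be000011006f5d000006006db4000010006bce000010006bcc00000c00002b00000500002c0000210000b300001f00714200000f0062c800000f0062c600000400002900000d00002a0000200000a900001e00711f00001f0000a300001f0000a0000012006f1a00001e00009400000a000025000004000026000007004b05000007004b0700001c00008600001b00008400000400002300000b00002400000300001f00000300002000001a00008200000e006dba00001300709400001900007a0000180065fa0000180065f800001700006b00000300001d000018000075000012006e7200000a004b0600000a004b0400000300001b00001600006600001500006500001400006000000200001700000200001800001300005e00001200005c00000e006db50000110000560000050059e50000050059e400000d00002d00000100001100001000003700000f00003200000e00003100000e00002e00000100000f00000c00002800000b00002700000a00002200000900002100000900001e00000800001c00000700001a00000200000b00000100000c000006000019000006000016000002006acd000002006acc00000100000900000300000a00000000000500000000000600000500001000000400000e00000300000d000002000008000001000007000001000004000000000003000000000002000000000001000000000000,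 0x2c0009bb00002c0009bc00002e00715300002d005c4b000031005bd1000031005bd000002b0008d100002b0008d200002f006fd700002e007158000030006fdb000030006fda00002a00070f00002a00071000002d006b01000030006fd600002f006af700002f006af600002800057f00002800058000003000715900003100715200002e00715b00002e00715a00002d00704900002d007048000031005c4a00002f006b000000250004e10000260070420000310009bd0000310009ba00002c006b8f00002c006b8e000028006b600000220002ce0000300008d30000300008d00000230069e200002000028f000027006dde0000290070be00002f00071100002f00070e]]

end Cfsg.Agent.Helper9.U35.A2
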