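import Mathlib
import Cfsg.Agent.Helper2.SmallOrder

/-!
# Two abstract lemmas on orders of subgroups

Two commuting elements of prime order `p`, the second not a power of the first, give a factor `p²`
of the order of a subgroup containing them; a subgroup of a simple group of order 126000 whose
order is divisible by 12600 is the whole group.
-/

set_option autoImplicit false

namespace Cfsg.Agent.Helper9.U35

theorem sq_dvd_card {G : Type*} [Group G] (p : ℕ) [hp : Fact p.Prime] (K : Subgroup G)
    [Finite K] (x y : G) (hx : x ∈ K) (hy : y ∈ K) (hxp : x ^ p = 1) (hyp : y ^ p = 1)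
    (hc : Commute x y) (hx1 : x ≠ 1) (hy' : y ∉ Subgroup.zpowers x) : p ^ 2 ∣ Nat.card K := by
  have hy1 : y ≠ 1 := by
    intro h
    apply hy'
    rw [h]
    exact one_mem _
  have hox : orderOf x = p := orderOf_eq_prime hxp hx1
  have hoy : orderOf y = p := orderOf_eq_prime hyp hy1
  have hcA : Nat.card (Subgroup.zpowers x) = p := by rw [Nat.card_zpowers, hox]
  have hcB : Nat.card (Subgroup.zpowers y) = p := by rw [Nat.card_zpowers, hoy]
  have hcomm : ∀ (a : Subgroup.zpowers x) (b : Subgroup.zpowers y),
      Commute ((Subgroup.zpowers x).subtype a) ((Subgroup.zpowers y).subtype b) := by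
    intro a b
    obtain ⟨i, hi⟩ := Subgroup.mem_zpowers_iff.mp a.2
    obtain ⟨j, hj⟩ := Subgroup.mem_zpowers_iff.mp b.2
    show Commute (a : G) (b : G)
    rw [← hi, ← hj]
    exact hc.zpow_zpow i j
  let f : Subgroup.zpowers x × Subgroup.zpowers y →* G :=
    MonoidHom.noncommCoprod (Subgroup.zpowers x).subtype (Subgroup.zpowers y).subtype hcomm
  have hf : ∀ a b, f (a, b) = (a : G) * (b : G) := fun a b => by
    show MonoidHom.noncommCoprod _ _ _ (a, b) = _
    rw [MonoidHom.noncommCoprod_apply]
    rfl
  have hinj : Function.Injective f := by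
    rw [← MonoidHom.ker_eq_bot_iff, eq_bot_iff]
    rintro ⟨a, b⟩ hab
    rw [MonoidHom.mem_ker, hf] at hab
    have hab' : (a : G) = (b : G)⁻¹ := eq_inv_of_mul_eq_one_left hab
    have hb1 : (b : G) = 1 := by
      by_contra hb
      have hbne : b ≠ 1 := fun h => hb (by rw [h]; rfl)
      have htop := zpowers_eq_top_of_prime_card (G := Subgroup.zpowers y) hcB hbne
      have hyb : (⟨y, Subgroup.mem_zpowers y⟩ : Subgroup.zpowers y) ∈ Subgroup.zpowers b := by
        rw [htop]
        exact Subgroup.mem_top _
      obtain ⟨k, hk⟩ := Subgroup.mem_zpowers_iff.mp hyb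
      have hk' : (b : G) ^ k = y := by
        have := congrArg Subtype.val hk
        simpa using this
      apply hy'
      rw [← hk']
      apply Subgroup.zpow_mem
      have : (b : G) = (a : G)⁻¹ := by rw [hab', inv_inv]
      rw [this]
      exact inv_mem a.2
    have ha1 : (a : G) = 1 := by rw [hab', hb1, inv_one]
    rw [Subgroup.mem_bot, Prod.mk_eq_one]
    exact ⟨Subtype.ext ha1, Subtype.ext hb1⟩
  have hrange : f.range ≤ K := by
    rintro _ ⟨⟨a, b⟩, rfl⟩
    rw [hf]
    apply mul_mem
    · obtain ⟨i, hi⟩ := Subgroup.mem_zpowers_iff.mp a.2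
      rw [← hi]
      exact Subgroup.zpow_mem _ hx i
    · obtain ⟨j, hj⟩ := Subgroup.mem_zpowers_iff.mp b.2
      rw [← hj]
      exact Subgroup.zpow_mem _ hy j
  have h1 : Nat.card f.range = p ^ 2 := by
    rw [← Nat.card_congr (MonoidHom.ofInjective hinj).toEquiv, Nat.card_prod, hcA, hcB, sq]
  rw [← h1]
  exact Subgroup.card_dvd_of_le hrange

theorem eq_top_of_dvd {G : Type*} [Group G] [Finite G] [IsSimpleGroup G]
    (hG : Nat.card G = 126000) (K : Subgroup G) (h : 12600 ∣ Nat.card K) : K = ⊤ := by
  by_contra hne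
  have h1 := Cfsg.Agent.Helper2.SmallOrder.card_dvd_factorial_index K hne
  obtain ⟨m, hm⟩ := h
  have h2 := K.card_mul_index
  rw [hG, hm] at h2
  have h3 : m * K.index = 10 := by
    have : 12600 * (m * K.index) = 12600 * 10 := by rw [← mul_assoc, h2]
    exact Nat.eq_of_mul_eq_mul_left (by norm_num) this
  have h4 : K.index ≤ 10 := by
    have hm0 : 0 < m := by
      rcases Nat.eq_zero_or_pos m with h0 | h0
      · rw [h0, zero_mul] at h3
        omega
      · exact h0
    calc K.index ≤ m * K.index := Nat.le_mul_of_pos_left _ hm0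
      _ = 10 := h3
  have h5 : Nat.card G ∣ Nat.factorial 10 := h1.trans (Nat.factorial_dvd_factorial h4)
  rw [hG] at h5
  revert h5
  decide

end Cfsg.Agent.Helper9.U35
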