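import Mathlib

/-!
# A presentation of `PSU₃(5)` on three generators

Generators `a, b, c` of orders 3, 5, 2 (letters `2 i` and `2 i + 1` for the `i`-th generator and its
inverse): `a, b` satisfy the relators `(ab)^7, (a a^b)^2, (a b^-2 a b^2)^2` of the alternating group
of degree 7, and eight further relators contain `c`.
-/

set_option autoImplicit false

namespace Cfsg.Agent.Helper9.U35

/-- the orders of the generators `a, b, c`. -/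
def mm (i : ℕ) : ℕ := if i = 0 then 3 else if i = 1 then 5 else 2

/-- the relators on `a, b`. -/
def EX1 : List (List ℕ) := [[0, 2, 0, 2, 0, 2, 0, 2, 0, 2, 0, 2, 0, 2], [0, 3, 0, 2, 0, 3, 0, 2], [0, 3, 3, 0, 2, 2, 0, 3, 3, 0, 2, 2]]

/-- the relators containing `c`. -/
def EX2 : List (List ℕ) := [[0, 2, 1, 4, 1, 2, 4, 0, 2, 1, 4, 1, 2, 4], [0, 2, 1, 4, 2, 1, 4, 0, 2, 1, 4, 2, 1, 4], [0, 2, 4, 3, 0, 2, 4, 3, 0, 2, 4, 3, 0, 2, 4, 3], [0, 0, 3, 1, 2, 4, 0, 0, 3, 1, 2, 4, 0, 0, 3, 1, 2, 4], [0, 3, 0, 3, 0, 4, 0, 3, 0, 3, 0, 4, 0, 3, 0, 3, 0, 4], [0, 3, 4, 0, 3, 4, 0, 3, 4, 0, 3, 4, 0, 3, 4, 0, 3, 4], [0, 3, 4, 3, 0, 4, 0, 3, 4, 3, 0, 4, 0, 3, 4, 3, 0, 4], [0, 0, 4, 0, 2, 0, 0, 4, 0, 2, 0, 0, 4, 0, 2, 0, 0, 4, 0, 2]]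

/-- the relators of the first step. -/
def C1 : List (List ℕ) := EX1

/-- all relators. -/
def C2 : List (List ℕ) := EX2 ++ C1

end Cfsg.Agent.Helper9.U35
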