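import Mathlib
import Cfsg.Prelude.Def_Classical
import Cfsg.Agent.Helper9.U35.GF25
import Cfsg.Agent.Helper9.U35.Pres
import Cfsg.Agent.Helper5.SUMap
import Cfsg.Agent.Helper8.SUCenter

/-!
# Matrices for `PSU₃(5)`

Explicit unitary `3 × 3` matrices of determinant 1 over the field with 25 elements for the letters
`a, a⁻¹, b, b⁻¹, c, c⁻¹`; a word in the letters is trivial in the projective group exactly when
its matrix is a scalar matrix.
-/

set_option autoImplicit false

namespace Cfsg.Agent.Helper9.U35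

open Cfsg Cfsg.Agent.Helper8.SUCenter Cfsg.Agent.Helper5.SUMap

/-- a matrix over the field with 25 elements from a table of numbers `0, …, 24`. -/
def mk25 (l : List (List ℕ)) : Matrix (Fin 3) (Fin 3) F25 :=
  fun i j => F25.ofN ((l.getD i.val []).getD j.val 0)

/-- the matrices of the letters `a, a⁻¹, b, b⁻¹, c, c⁻¹`. -/
def U : ℕ → Matrix (Fin 3) (Fin 3) F25
  | 0 => mk25 [[21, 5, 21], [16, 0, 14], [9, 5, 9]]
  | 1 => mk25 [[6, 11, 24], [20, 0, 20], [6, 19, 24]]
  | 2 => mk25 [[8, 23, 7], [10, 13, 16], [22, 5, 12]]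
  | 3 => mk25 [[23, 15, 7], [8, 18, 20], [22, 11, 17]]
  | _ => mk25 [[2, 21, 19], [6, 2, 20], [14, 5, 0]]

theorem U_ge (c : ℕ) (hc : 4 ≤ c) : U c = U 4 := by
  match c, hc with
  | c + 4, _ => rfl

set_option maxRecDepth 100000 in
theorem U_det_lt : ∀ c, c < 5 → (U c).det = 1 := by
  intro c hc
  interval_cases c <;> (rw [Matrix.det_fin_three]; decide +kernel)

theorem U_det (c : ℕ) : (U c).det = 1 := by
  rcases Nat.lt_or_ge c 5 with h | h
  · exact U_det_lt c h
  · rw [U_ge c (by omega)]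
    exact U_det_lt 4 (by norm_num)

set_option maxRecDepth 100000 in
theorem U_unitary_lt : ∀ c, c < 5 → (U c).transpose * (U c).map (· ^ 5) = 1 := by
  intro c hc
  interval_cases c <;> decide +kernel

theorem U_unitary (c : ℕ) : (U c).transpose * (U c).map (· ^ 5) = 1 := by
  rcases Nat.lt_or_ge c 5 with h | h
  · exact U_unitary_lt c h
  · rw [U_ge c (by omega)]
    exact U_unitary_lt 4 (by norm_num)

theorem hK25 : Fintype.card F25 = 5 ^ 2 := by decide

/-- the letters in the special unitary group. -/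
def V (c : ℕ) : Cfsg.SU 3 F25 5 := mkSU hK25 (U c) (U_unitary c) (U_det c)

theorem V_val (c : ℕ) :
    (((V c : Cfsg.SU 3 F25 5) : Matrix.SpecialLinearGroup (Fin 3) F25) :
      Matrix (Fin 3) (Fin 3) F25) = U c := rfl

/-- the projective special unitary group of degree 3 over the model field. -/
abbrev PSU35 : Type := Cfsg.PSU 3 F25 5

/-- the letters in the projective special unitary group. -/
def W (c : ℕ) : PSU35 := QuotientGroup.mk (V c)

theorem prod_W (l : List ℕ) : (l.map W).prod = (QuotientGroup.mk ((l.map V).prod) : PSU35) := by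
  have h := map_list_prod (QuotientGroup.mk' (Subgroup.center (Cfsg.SU 3 F25 5))) (l.map V)
  rw [List.map_map] at h
  exact h.symm

theorem val_prod_V (l : List ℕ) :
    ((((l.map V).prod : Cfsg.SU 3 F25 5) : Matrix.SpecialLinearGroup (Fin 3) F25) :
      Matrix (Fin 3) (Fin 3) F25) = (l.map U).prod := by
  rw [sub_list_prod, List.map_map]
  rfl

/-- the test for scalar matrices. -/
def isScal (M : Matrix (Fin 3) (Fin 3) F25) : Bool := decide (M = (M 0 0) • (1 : Matrix (Fin 3) (Fin 3) F25))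

/-- the matrix of a word. -/
def wmat (l : List ℕ) : Matrix (Fin 3) (Fin 3) F25 := (l.map U).prod

theorem mk_eq_one_of_scalar (s : Cfsg.SU 3 F25 5) (ζ : F25)
    (h : ((s : Matrix.SpecialLinearGroup (Fin 3) F25) : Matrix (Fin 3) (Fin 3) F25) =
      ζ • (1 : Matrix (Fin 3) (Fin 3) F25)) : (QuotientGroup.mk s : PSU35) = 1 := by
  rw [QuotientGroup.eq_one_iff, Subgroup.mem_center_iff]
  intro g
  apply Subtype.ext
  apply Subtype.ext
  show (g.1 : Matrix (Fin 3) (Fin 3) F25) * (s.1 : Matrix (Fin 3) (Fin 3) F25) =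
    (s.1 : Matrix (Fin 3) (Fin 3) F25) * (g.1 : Matrix (Fin 3) (Fin 3) F25)
  rw [h, Matrix.mul_smul, Matrix.smul_mul, Matrix.mul_one, Matrix.one_mul]

theorem scalar_of_mk_eq_one (s : Cfsg.SU 3 F25 5) (h : (QuotientGroup.mk s : PSU35) = 1) :
    ∃ ζ : F25, ((s : Matrix.SpecialLinearGroup (Fin 3) F25) : Matrix (Fin 3) (Fin 3) F25) =
      ζ • (1 : Matrix (Fin 3) (Fin 3) F25) := by
  rw [QuotientGroup.eq_one_iff] at h
  obtain ⟨ζ, hζ, hζn, hs⟩ := center_eq_scal hK25 (by norm_num) s h
  refine ⟨ζ, ?_⟩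
  rw [hs]
  rfl

/-- **a word is trivial in the projective group iff its matrix is scalar.** -/
theorem prod_W_eq_one_iff (l : List ℕ) : (l.map W).prod = 1 ↔ isScal (wmat l) = true := by
  rw [prod_W]
  unfold isScal wmat
  rw [decide_eq_true_iff]
  constructor
  · intro h
    obtain ⟨ζ, hζ⟩ := scalar_of_mk_eq_one _ h
    rw [val_prod_V] at hζ
    rw [hζ]
    congr 1
    rw [Matrix.smul_apply, Matrix.one_apply_eq, smul_eq_mul, mul_one]
  · intro h
    exact mk_eq_one_of_scalar _ _ (by rw [val_prod_V]; exact h)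

end Cfsg.Agent.Helper9.U35
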