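import Mathlib
import Cfsg.Agent.Helper9.U35.Pres
import Cfsg.Agent.Helper3.Tower64
import Cfsg.Agent.Helper9.U35.A1Sum
import Cfsg.Agent.Helper9.U35.A2Sum

/-!
# generated: the order of the presented group is at most 126000

`3 < A7 < PSU₃(5)`: two Todd–Coxeter certificates (840 and 50 cosets; labelled certificates with
trivial labels, exponent 1).
-/

set_option autoImplicit false

namespace Cfsg.Agent.Helper9.U35

open Cfsg Cfsg.Agent.Helper5.StemP Cfsg.Agent.Helper5.LP Cfsg.Agent.Helper5.LTC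
  Cfsg.Agent.Helper5.TC Cfsg.Agent.Helper5.TCI Cfsg.Agent.Helper3.LTC64 Cfsg.Agent.Helper3.Tower64

/-- a letter of a word of a two-level list of words. -/
theorem mem_words2 {L : List (List (List ℕ))} {i j c : ℕ} (h : c ∈ (L.getD i []).getD j []) :
    ∃ g ∈ L, ∃ w ∈ g, c ∈ w := by
  by_cases hi : i < L.length
  · rw [List.getD_eq_getElem _ _ hi] at h
    by_cases hj : j < L[i].length
    · rw [List.getD_eq_getElem _ _ hj] at h
      exact ⟨L[i], List.getElem_mem hi, L[i][j], List.getElem_mem hj, h⟩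
    · rw [List.getD_eq_default _ _ (by omega)] at h
      simp at h
  · have e0 : L.getD i [] = [] := List.getD_eq_default _ _ (by omega)
    rw [e0] at h
    simp at h

theorem EX1_lt : ∀ r ∈ EX1, ∀ c ∈ r, c < 2 * 2 := by decide

theorem EX2_lt : ∀ r ∈ EX2, ∀ c ∈ r, c < 2 * 3 := by decide

theorem C1_lt : ∀ r ∈ C1, ∀ c ∈ r, c < 2 * 2 := by decide

theorem C2_lt : ∀ r ∈ C2, ∀ c ∈ r, c < 2 * 3 := by decide

theorem words_lt_1 : ∀ wi, ∀ c ∈ A1.cert.W wi, c < 2 * 2 := by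
  intro wi c hc
  have h : ∀ g ∈ A1.words2, ∀ w ∈ g, ∀ c ∈ w, c < 4 := by decide +kernel
  change c ∈ (A1.words2.getD (Nat.div wi 16) []).getD (Nat.mod wi 16) [] at hc
  obtain ⟨g, hg, w, hw, hcw⟩ := mem_words2 hc
  exact h g hg w hw c hcw

set_option maxRecDepth 1000000 in
theorem wordOK_1 : ∀ wi, wi < A1.cert.nrel →
    wordOK3 (coverRels 2 mm (EX1 ++ []) (EX1 ++ []) 1) (EX1 ++ []) EX1.length (A1.cert.W wi) (A1.cert.δ wi)
      (A1.origs.getD wi 0) = true := by decide +kernel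

theorem hsubW_1 : ∀ wi, A1.cert.nrel ≤ wi → wi < A1.cert.nw →
    ∃ c, c < 2 * 1 ∧ A1.cert.W wi = [c] := by
  intro wi h1 h2
  have h1' : 19 ≤ wi := h1
  have h2' : wi < 20 := h2
  interval_cases wi
  · exact ⟨0, by norm_num, by decide +kernel⟩

/-- the presented group on the first 2 generators. -/
theorem card_1 : Finite (CovG 2 mm C1 C1 1) ∧ Nat.card (CovG 2 mm C1 C1 1) ≤ 2520 := by
  have h := step64 1 2 mm [] EX1 1 (by norm_num) (by simp) EX1_lt (by norm_num) (by decide)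
    (mm 0) (Cfsg.Agent.Helper4.Tower.base mm 1 (by decide)) A1.cert rfl rfl rfl words_lt_1
    (fun wi => A1.origs.getD wi 0) wordOK_1 hsubW_1 A1.hchk A1.tab (by decide +kernel)
    (by decide) A1.hT A1.js A1.hjs 0 1 (by norm_num) (by norm_num) A1.cs0 A1.h0
    (fun i => A1.as_.getD i 0) (fun i => A1.css.getD i []) A1.hgs
  have hN : A1.tab.N = 840 := rfl
  rw [hN] at h
  rw [List.append_nil] at h
  exact ⟨h.1, h.2.trans (by decide)⟩

theorem words_lt_2 : ∀ wi, ∀ c ∈ A2.cert.W wi, c < 2 * 3 := by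
  intro wi c hc
  have h : ∀ g ∈ A2.words2, ∀ w ∈ g, ∀ c ∈ w, c < 6 := by decide +kernel
  change c ∈ (A2.words2.getD (Nat.div wi 16) []).getD (Nat.mod wi 16) [] at hc
  obtain ⟨g, hg, w, hw, hcw⟩ := mem_words2 hc
  exact h g hg w hw c hcw

set_option maxRecDepth 1000000 in
theorem wordOK_2 : ∀ wi, wi < A2.cert.nrel →
    wordOK3 (coverRels 3 mm (EX2 ++ C1) (EX2 ++ C1) 1) (EX2 ++ C1) EX2.length (A2.cert.W wi) (A2.cert.δ wi)
      (A2.origs.getD wi 0) = true := by decide +kernel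

theorem hsubW_2 : ∀ wi, A2.cert.nrel ≤ wi → wi < A2.cert.nw →
    ∃ c, c < 2 * 2 ∧ A2.cert.W wi = [c] := by
  intro wi h1 h2
  have h1' : 66 ≤ wi := h1
  have h2' : wi < 68 := h2
  interval_cases wi
  · exact ⟨0, by norm_num, by decide +kernel⟩
  · exact ⟨2, by norm_num, by decide +kernel⟩

/-- the presented group on the first 3 generators. -/
theorem card_2 : Finite (CovG 3 mm C2 C2 1) ∧ Nat.card (CovG 3 mm C2 C2 1) ≤ 126000 := by
  have h := step64 2 3 mm C1 EX2 1 (by norm_num) C1_lt EX2_lt (by norm_num) (by decide)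
    2520 card_1 A2.cert rfl rfl rfl words_lt_2
    (fun wi => A2.origs.getD wi 0) wordOK_2 hsubW_2 A2.hchk A2.tab (by decide +kernel)
    (by decide) A2.hT A2.js A2.hjs 0 1 (by norm_num) (by norm_num) A2.cs0 A2.h0
    (fun i => A2.as_.getD i 0) (fun i => A2.css.getD i []) A2.hgs
  have hN : A2.tab.N = 50 := rfl
  rw [hN] at h
  exact ⟨h.1, h.2.trans (by decide)⟩

end Cfsg.Agent.Helper9.U35
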