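import Mathlib
import Cfsg.Agent.Helper9.U35.Mat
import Cfsg.Agent.Helper9.U35.Abs
import Cfsg.Agent.Helper9.U35.Tow
import Cfsg.Agent.Helper5.StemPI
import Cfsg.Agent.S0280
import Cfsg.Agent.S0283

/-!
# The presented group is `PSU₃(5)`

The presented group of `Pres` has order at most 126000 (`Tow`) and maps to `PSU₃(5)` by the matrices
of `Mat`; the image contains elements of orders 7 and 8 and elementary abelian subgroups of orders 9
and 25, so its index divides 10 and it is everything, as `PSU₃(5)` is simple of order 126000.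
-/

set_option autoImplicit false

namespace Cfsg.Agent.Helper9.U35

open Cfsg Cfsg.Agent.Helper5.StemP Cfsg.Agent.Helper5.LP

/-- the presented group. -/
abbrev P35 : Type := CovG 3 mm C2 C2 1

theorem prod_val : (∏ i ∈ Finset.range 3, (if Even i then 5 ^ (i + 1) + 1 else 5 ^ (i + 1) - 1)) =
    18144 := by
  decide

theorem card_PSU35 : Nat.card PSU35 = 126000 := by
  change Nat.card (Cfsg.PSU 3 F25 5) = 126000
  have h := Cfsg.Agent.S0280.result (F := F25) (q := 5) hK25 3 (by norm_num)
  rw [prod_val] at h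
  norm_num at h
  omega

instance simple_PSU35 : IsSimpleGroup PSU35 :=
  Cfsg.Agent.S0283.result (F := F25) (q := 5) hK25 3 (by norm_num) (by omega)

instance finite_PSU35 : Finite PSU35 :=
  Nat.finite_of_card_ne_zero (by rw [card_PSU35]; norm_num)

/-! ### words -/

/-- the element of a word. -/
def wordW (l : List ℕ) : PSU35 := (l.map W).prod

theorem wordW_append (l1 l2 : List ℕ) : wordW (l1 ++ l2) = wordW l1 * wordW l2 := by
  unfold wordW
  rw [List.map_append, List.prod_append]

theorem wordW_pow (l : List ℕ) : ∀ n : ℕ, wordW (List.replicate n l).flatten = wordW l ^ n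
  | 0 => by simp [wordW]
  | n + 1 => by
    rw [List.replicate_succ, List.flatten_cons, wordW_append, wordW_pow l n, pow_succ']

theorem wordW_eq_one_iff (l : List ℕ) : wordW l = 1 ↔ isScal (wmat l) = true :=
  prod_W_eq_one_iff l

theorem wordW_ne_one (l : List ℕ) (h : isScal (wmat l) = false) : wordW l ≠ 1 := by
  intro h1
  rw [wordW_eq_one_iff, h] at h1
  exact Bool.false_ne_true h1

/-! ### the homomorphism -/

/-- the images of the generators. -/
def gW (i : ℕ) : PSU35 := W (2 * i)

set_option maxRecDepth 100000 in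
theorem inv_chk : ∀ i, i < 3 → isScal (wmat [2 * i, 2 * i + 1]) = true := by decide +kernel

theorem W_mul_inv {i : ℕ} (hi : i < 3) : W (2 * i) * W (2 * i + 1) = 1 := by
  have h := (wordW_eq_one_iff [2 * i, 2 * i + 1]).mpr (inv_chk i hi)
  unfold wordW at h
  simpa using h

theorem lval_gW : ∀ c, c < 6 → lval gW c = W c := by
  intro c hc
  obtain ⟨i, rfl | rfl⟩ : ∃ i, c = 2 * i ∨ c = 2 * i + 1 := ⟨c / 2, by omega⟩
  · rw [lval_even]
    rfl
  · rw [lval_odd]
    exact inv_eq_of_mul_eq_one_right (W_mul_inv (i := i) (by omega))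

theorem map_lval (l : List ℕ) (hl : ∀ c ∈ l, c < 6) : (l.map (lval gW)).prod = wordW l := by
  unfold wordW
  congr 1
  apply List.map_congr_left
  intro c hc
  exact lval_gW c (hl c hc)

theorem C22_lt : ∀ r ∈ C2 ++ C2, ∀ c ∈ r, c < 2 * 3 := by decide

set_option maxRecDepth 100000 in
theorem rel_chk : ∀ r ∈ C2 ++ C2, isScal (wmat r) = true := by decide +kernel

set_option maxRecDepth 100000 in
theorem pow_chk : ∀ i, i < 3 → isScal (wmat (List.replicate (mm i) (2 * i))) = true := by
  decide +kernel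

theorem gW_pow : ∀ i, i < 3 → gW i ^ mm i = 1 := by
  intro i hi
  have h := (wordW_eq_one_iff _).mpr (pow_chk i hi)
  unfold wordW at h
  rw [List.map_replicate, List.prod_replicate] at h
  exact h

theorem gW_rel : ∀ r ∈ C2 ++ C2, (r.map (lval gW)).prod = 1 := by
  intro r hr
  rw [map_lval r (C22_lt r hr)]
  exact (wordW_eq_one_iff r).mpr (rel_chk r hr)

/-- the homomorphism to `PSU₃(5)`. -/
noncomputable def phi : P35 →* PSU35 := coverHomU 3 mm C2 C2 1 C22_lt gW gW_pow gW_rel

theorem phi_ev (l : List ℕ) (hl : ∀ c ∈ l, c < 6) :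
    phi (ev (2 * 3) (coverRels 3 mm C2 C2 1) l) = wordW l := by
  unfold phi
  rw [coverHomU_ev 3 mm C2 C2 1 C22_lt gW gW_pow gW_rel l hl, map_lval l hl]

theorem wordW_mem_range (l : List ℕ) (hl : ∀ c ∈ l, c < 6) : wordW l ∈ phi.range :=
  ⟨_, phi_ev l hl⟩

/-! ### the order of the image -/

theorem not_mem_zpowers {G : Type*} [Group G] (x y : G) (p : ℕ) (hp : 0 < p) (hxp : x ^ p = 1)
    (h : ∀ j, j < p → y ≠ x ^ j) : y ∉ Subgroup.zpowers x := by
  intro hy
  obtain ⟨k, hk⟩ := Subgroup.mem_zpowers_iff.mp hy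
  have hp' : (0 : ℤ) < (p : ℤ) := by exact_mod_cast hp
  have h0 := Int.emod_nonneg k hp'.ne'
  have h1 := Int.emod_lt_of_pos k hp'
  have hk2 : x ^ k = x ^ (k % (p : ℤ)) := by
    conv_lhs => rw [← Int.emod_add_mul_ediv k p]
    rw [zpow_add, zpow_mul, zpow_natCast, hxp, one_zpow, mul_one]
  have hj : (k % (p : ℤ)).toNat < p := by omega
  apply h _ hj
  rw [← hk, hk2, ← zpow_natCast, Int.toNat_of_nonneg h0]

theorem sq_dvd_of_pair (p : ℕ) [Fact p.Prime] (lx lx' ly ly' : List ℕ)
    (hlx : ∀ c ∈ lx, c < 6) (hly : ∀ c ∈ ly, c < 6)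
    (h1 : isScal (wmat (lx ++ lx')) = true) (h2 : isScal (wmat (ly ++ ly')) = true)
    (h3 : isScal (wmat (List.replicate p lx).flatten) = true)
    (h4 : isScal (wmat (List.replicate p ly).flatten) = true)
    (h5 : isScal (wmat (lx ++ ly ++ lx' ++ ly')) = true)
    (h6 : isScal (wmat lx) = false)
    (h7 : ∀ j, j < p → isScal (wmat (ly ++ (List.replicate j lx').flatten)) = false) :
    p ^ 2 ∣ Nat.card phi.range := by
  have e1 : wordW lx * wordW lx' = 1 := by
    rw [← wordW_append]
    exact (wordW_eq_one_iff _).mpr h1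
  have e2 : wordW ly * wordW ly' = 1 := by
    rw [← wordW_append]
    exact (wordW_eq_one_iff _).mpr h2
  have e1' : wordW lx' = (wordW lx)⁻¹ := (inv_eq_of_mul_eq_one_right e1).symm
  have e2' : wordW ly' = (wordW ly)⁻¹ := (inv_eq_of_mul_eq_one_right e2).symm
  have e5 : wordW lx * wordW ly * (wordW lx)⁻¹ * (wordW ly)⁻¹ = 1 := by
    rw [← e1', ← e2', ← wordW_append, ← wordW_append, ← wordW_append]
    exact (wordW_eq_one_iff _).mpr h5
  have hc : Commute (wordW lx) (wordW ly) := by
    have := mul_inv_eq_one.mp e5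
    have h' := mul_inv_eq_iff_eq_mul.mp this
    exact h'
  apply sq_dvd_card p phi.range (wordW lx) (wordW ly) (wordW_mem_range lx hlx)
    (wordW_mem_range ly hly)
  · rw [← wordW_pow]
    exact (wordW_eq_one_iff _).mpr h3
  · rw [← wordW_pow]
    exact (wordW_eq_one_iff _).mpr h4
  · exact hc
  · exact wordW_ne_one lx h6
  · apply not_mem_zpowers _ _ p (Nat.Prime.pos Fact.out)
    · rw [← wordW_pow]
      exact (wordW_eq_one_iff _).mpr h3
    · intro j hj hy
      have h := wordW_ne_one _ (h7 j hj)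
      apply h
      rw [wordW_append, wordW_pow, e1', hy, inv_pow, mul_inv_cancel]

/-- the word of an element of order 7. -/
def l7 : List ℕ := [0, 2]

/-- the word of an element of order 8. -/
def l8 : List ℕ := [0, 4, 2]

/-- a word of an element of order 3 commuting with the first letter. -/
def ls2 : List ℕ := [2, 0, 2, 0, 2, 0, 3, 1, 3, 1, 3]

/-- its inverse. -/
def ls2' : List ℕ := [2, 0, 2, 0, 2, 1, 3, 1, 3, 1, 3]

/-- a word of an element of order 5 commuting with the second generator. -/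
def lz : List ℕ := [2, 0, 3, 0, 3, 4, 1, 2, 0, 5, 2, 1, 2, 1, 3, 0, 3, 0, 3, 4, 1, 3, 0, 5, 2, 1, 2, 1]

/-- its inverse. -/
def lz' : List ℕ := [0, 3, 0, 3, 4, 1, 2, 0, 5, 2, 1, 2, 1, 2, 0, 3, 0, 3, 4, 1, 3, 0, 5, 2, 1, 2, 1, 3]

set_option maxRecDepth 100000 in
theorem chk7 : isScal (wmat l7) = false ∧ isScal (wmat (List.replicate 7 l7).flatten) = true := by
  decide +kernel

set_option maxRecDepth 100000 in
theorem chk8 : isScal (wmat (List.replicate 4 l8).flatten) = false ∧
    isScal (wmat (List.replicate 8 l8).flatten) = true := by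
  decide +kernel

set_option maxRecDepth 100000 in
theorem chk3 : isScal (wmat ([0] ++ [1])) = true ∧ isScal (wmat (ls2 ++ ls2')) = true ∧
    isScal (wmat (List.replicate 3 [0]).flatten) = true ∧
    isScal (wmat (List.replicate 3 ls2).flatten) = true ∧
    isScal (wmat ([0] ++ ls2 ++ [1] ++ ls2')) = true ∧ isScal (wmat [0]) = false ∧
    ∀ j, j < 3 → isScal (wmat (ls2 ++ (List.replicate j [1]).flatten)) = false := by
  decide +kernel

set_option maxRecDepth 100000 in
theorem chk5 : isScal (wmat ([2] ++ [3])) = true ∧ isScal (wmat (lz ++ lz')) = true ∧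
    isScal (wmat (List.replicate 5 [2]).flatten) = true ∧
    isScal (wmat (List.replicate 5 lz).flatten) = true ∧
    isScal (wmat ([2] ++ lz ++ [3] ++ lz')) = true ∧ isScal (wmat [2]) = false ∧
    ∀ j, j < 5 → isScal (wmat (lz ++ (List.replicate j [3]).flatten)) = false := by
  decide +kernel

theorem nine_dvd : 3 ^ 2 ∣ Nat.card phi.range := by
  obtain ⟨h1, h2, h3, h4, h5, h6, h7⟩ := chk3
  exact sq_dvd_of_pair 3 [0] [1] ls2 ls2' (by decide) (by decide) h1 h2 h3 h4 h5 h6 h7

theorem twentyfive_dvd : 5 ^ 2 ∣ Nat.card phi.range := by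
  have : Fact (Nat.Prime 5) := ⟨by norm_num⟩
  obtain ⟨h1, h2, h3, h4, h5, h6, h7⟩ := chk5
  exact sq_dvd_of_pair 5 [2] [3] lz lz' (by decide) (by decide) h1 h2 h3 h4 h5 h6 h7

theorem seven_dvd : 7 ∣ Nat.card phi.range := by
  have h1 : wordW l7 ^ 7 = 1 := by
    rw [← wordW_pow]
    exact (wordW_eq_one_iff _).mpr chk7.2
  have h2 : orderOf (wordW l7) = 7 := by
    have : Fact (Nat.Prime 7) := ⟨by norm_num⟩
    exact orderOf_eq_prime h1 (wordW_ne_one _ chk7.1)
  rw [← h2]
  exact Subgroup.orderOf_dvd_natCard _ (wordW_mem_range l7 (by decide))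

theorem eight_dvd : 8 ∣ Nat.card phi.range := by
  have h1 : wordW l8 ^ 2 ^ (2 + 1) = 1 := by
    rw [← wordW_pow]
    exact (wordW_eq_one_iff _).mpr chk8.2
  have h0 : ¬ wordW l8 ^ 2 ^ 2 = 1 := by
    rw [← wordW_pow]
    exact wordW_ne_one _ chk8.1
  have h2 : orderOf (wordW l8) = 2 ^ (2 + 1) := orderOf_eq_prime_pow h0 h1
  have h3 : (8 : ℕ) = 2 ^ (2 + 1) := by norm_num
  rw [h3, ← h2]
  exact Subgroup.orderOf_dvd_natCard _ (wordW_mem_range l8 (by decide))

theorem phi_range : phi.range = ⊤ := by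
  apply eq_top_of_dvd card_PSU35
  have h9 := nine_dvd
  have h25 := twentyfive_dvd
  have h7 := seven_dvd
  have h8 := eight_dvd
  have a1 : (8 * 9 : ℕ) ∣ Nat.card phi.range :=
    Nat.Coprime.mul_dvd_of_dvd_of_dvd (by norm_num) h8 (by simpa using h9)
  have a2 : (8 * 9 * 25 : ℕ) ∣ Nat.card phi.range :=
    Nat.Coprime.mul_dvd_of_dvd_of_dvd (by norm_num) a1 (by simpa using h25)
  have a3 : (8 * 9 * 25 * 7 : ℕ) ∣ Nat.card phi.range :=
    Nat.Coprime.mul_dvd_of_dvd_of_dvd (by norm_num) a2 h7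
  exact a3

theorem phi_surjective : Function.Surjective phi := MonoidHom.range_eq_top.mp phi_range

instance finite_P35 : Finite P35 := card_2.1

/-- **The presented group is `PSU₃(5)`.** -/
noncomputable def isoP : P35 ≃* PSU35 :=
  MulEquiv.ofBijective phi (phi_surjective.bijective_of_nat_card_le (by
    rw [card_PSU35]
    exact card_2.2))

instance simple_P35 : IsSimpleGroup P35 := isoP.isSimpleGroup

theorem card_P35 : Nat.card P35 = 126000 := by
  rw [Nat.card_congr isoP.toEquiv, card_PSU35]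

end Cfsg.Agent.Helper9.U35
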