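import Mathlib
import Cfsg.Agent.Helper9.U35.LDat
import Cfsg.Agent.Helper9.U35.Pres
import Cfsg.Agent.Helper9.LeechAct.Lin
import Cfsg.Agent.Helper9.Leech.ModTwo
import Cfsg.Agent.Helper9.Leech.HS2
import Cfsg.Agent.Helper9.CrossMax.Chk

/-!
# The stabiliser of three vectors isomorphic to `PSU₃(5)`: words

The words of the letters fix the three standard vectors; a word in the letters is the identity as
soon as it fixes the 24 vectors with one coordinate 8, which is certified step by step.
-/

set_option autoImplicit false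
set_option maxRecDepth 100000

namespace Cfsg.Agent.Helper9.U35

open Cfsg Cfsg.Agent.Helper9.Golay Cfsg.Agent.Helper9.Leech Cfsg.Agent.Helper9.LeechAct
  Cfsg.Agent.Helper9.CrossMax

/-! ### words -/

/-- the word of a letter. -/
def lw (c : ℕ) : List LLet := lwD.getD c []

/-- the automorphism of a letter. -/
def gw (c : ℕ) : Equiv.Perm ↥leechLattice := wordEl (lw c)

theorem gw_mem (c : ℕ) : gw c ∈ Co0 := wordEl_mem _

theorem lwD_ok : lwD.all (fun w => w.all letOK) = true := by decide +kernel

theorem getD_ok {L : List (List LLet)} (h : L.all (fun w => w.all letOK) = true) (c : ℕ) :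
    ∀ l ∈ L.getD c [], letOK l = true := by
  intro l hl
  by_cases hc : c < L.length
  · rw [List.getD_eq_getElem _ _ hc] at hl
    rw [List.all_eq_true] at h
    have h1 := h _ (List.getElem_mem hc)
    rw [List.all_eq_true] at h1
    exact h1 l hl
  · rw [List.getD_eq_default _ _ (by omega)] at hl
    simp at hl

theorem lw_ok (c : ℕ) : ∀ l ∈ lw c, letOK l = true := getD_ok lwD_ok c

/-- the word of a list of letters. -/
def flat (r : List ℕ) : List LLet := (r.map lw).flatten

theorem wordEl_append (w1 w2 : List LLet) : wordEl (w1 ++ w2) = wordEl w1 * wordEl w2 := by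
  unfold wordEl
  rw [List.map_append, List.prod_append]

theorem wordEl_flat : ∀ r : List ℕ, wordEl (flat r) = (r.map gw).prod
  | [] => rfl
  | c :: r => by
    show wordEl (lw c ++ flat r) = _
    rw [wordEl_append, wordEl_flat r, List.map_cons, List.prod_cons]
    rfl

theorem flat_ok (r : List ℕ) : ∀ l ∈ flat r, letOK l = true := by
  intro l hl
  unfold flat at hl
  rw [List.mem_flatten] at hl
  obtain ⟨w, hw, hlw⟩ := hl
  rw [List.mem_map] at hw
  obtain ⟨c, -, rfl⟩ := hw
  exact lw_ok c l hlw

theorem wordL_append (w1 w2 : List LLet) (al : List ℤ) :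
    wordL (w1 ++ w2) al = wordL w1 (wordL w2 al) := by
  unfold wordL
  rw [List.foldr_append]

theorem wordL_flat_cons (c : ℕ) (r : List ℕ) (al : List ℤ) :
    wordL (flat (c :: r)) al = wordL (lw c) (wordL (flat r) al) := by
  show wordL (lw c ++ flat r) al = _
  rw [wordL_append]

/-- decoding of a list of coordinates shifted by 8. -/
def dec8 (l : List ℕ) : List ℤ := l.map (fun a => Int.ofNat a - 8)

/-- the image of a list of coordinates under a word in the letters, certified by the intermediate
lists. -/
def trajOK : List ℕ → List (List ℕ) → List ℤ → List ℤ → Bool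
  | [], _, x, y => x == y
  | _ :: _, [], _, _ => false
  | c :: r, z :: tr, x, y => trajOK r tr x (dec8 z) && (wordL (lw c) (dec8 z) == y)

theorem trajOK_sound : ∀ (r : List ℕ) (tr : List (List ℕ)) (x y : List ℤ),
    trajOK r tr x y = true → wordL (flat r) x = y
  | [], _, x, y, h => by
    unfold trajOK at h
    rw [beq_iff_eq] at h
    exact h
  | _ :: _, [], _, _, h => by
    unfold trajOK at h
    exact absurd h Bool.false_ne_true
  | c :: r, z :: tr, x, y, h => by
    unfold trajOK at h
    rw [Bool.and_eq_true, beq_iff_eq] at h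
    rw [wordL_flat_cons, trajOK_sound r tr x (dec8 z) h.1]
    exact h.2

/-- the check of a relator on the 24 vectors with one coordinate 8. -/
def relChk (r : List ℕ) (T : List (List (List ℕ))) : Bool :=
  (List.range 24).all (fun k => trajOK r (T.getD k []) (e8L k) (e8L k))

theorem eq_one_of_e8 {z : Equiv.Perm ↥leechLattice} (hz : z ∈ Co0)
    (hs : ∀ i, z (e8 i) = e8 i) : z = 1 := by
  apply Equiv.ext
  intro v
  rw [lin_of_e8 hz 1 (fun i => by rw [one_smul]; exact hs i) v, one_smul]
  rfl

theorem prod_eq_one_of_relChk {r : List ℕ} {T : List (List (List ℕ))} (h : relChk r T = true) :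
    (r.map gw).prod = 1 := by
  rw [← wordEl_flat]
  apply eq_one_of_e8 (wordEl_mem _)
  intro p
  apply Subtype.ext
  rw [wordEl_apply (flat_ok r) (e8_coe' p)]
  unfold relChk at h
  rw [List.all_eq_true] at h
  have h1 := trajOK_sound _ _ _ _ (h (ptIdx p) (List.mem_range.mpr (ptIdx_lt p)))
  rw [h1, e8_coe' p]

/-! ### the third vector -/

theorem alX0_mem : toVec alX0 ∈ leechLattice := leechP_sound (by decide +kernel)

/-- the third standard vector. -/
def x0 : ↥leechLattice := ⟨toVec alX0, alX0_mem⟩

theorem x0_eq : ((x0 : ↥leechLattice) : GolayPt → ℤ) = toVec alX0 := rfl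

/-! ### fixed vectors -/

/-- the check that a word fixes the three standard vectors. -/
def fixChk (c : ℕ) : Bool :=
  (wordL (lw c) alVA == alVA) && (wordL (lw c) alWA == alWA) && (wordL (lw c) alX0 == alX0)

theorem fix_all : ∀ c, c < 6 → fixChk c = true := by decide +kernel

theorem fix_of_list {w : List LLet} (hw : ∀ l ∈ w, letOK l = true) {z : ↥leechLattice}
    {al : List ℤ} (hz : (z : GolayPt → ℤ) = toVec al) (h : wordL w al = al) : wordEl w z = z := by
  apply Subtype.ext
  rw [wordEl_apply hw hz, h, hz]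

theorem gw_fix {c : ℕ} (hc : c < 6) : gw c vA = vA ∧ gw c wA = wA ∧ gw c x0 = x0 := by
  have h := fix_all c hc
  unfold fixChk at h
  rw [Bool.and_eq_true, Bool.and_eq_true, beq_iff_eq, beq_iff_eq, beq_iff_eq] at h
  exact ⟨fix_of_list (lw_ok c) vA_eq h.1.1, fix_of_list (lw_ok c) wA_eq h.1.2,
    fix_of_list (lw_ok c) x0_eq h.2⟩

/-- the first word moves the second vector with one coordinate 8. -/
theorem move0 : wordL (lw 0) (e8L 1) ≠ e8L 1 := by decide +kernel

theorem gw0_ne_one : gw 0 ≠ 1 := by
  intro h
  have hx : ((e8 (mkPt 1) : ↥leechLattice) : GolayPt → ℤ) = toVec (e8L 1) := by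
    rw [e8_coe' (mkPt 1), ptIdx_mkPt 1 (by norm_num)]
  have h0 : ((gw 0 (e8 (mkPt 1)) : ↥leechLattice) : GolayPt → ℤ) =
      toVec (wordL (lw 0) (e8L 1)) := wordEl_apply (lw_ok 0) hx
  rw [h, Equiv.Perm.one_apply, hx] at h0
  have e1 : pts.map (toVec (e8L 1)) = e8L 1 := pts_map_toVec _ (by decide)
  have e2 : pts.map (toVec (wordL (lw 0) (e8L 1))) = wordL (lw 0) (e8L 1) :=
    pts_map_toVec _ (by decide +kernel)
  apply move0
  rw [← e2, ← h0, e1]

end Cfsg.Agent.Helper9.U35
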