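import Mathlib
import Cfsg.Agent.Helper9.U35.LWord

/-!
# The stabiliser of three vectors isomorphic to `PSU₃(5)`: the orbit of the third vector

Five automorphisms fixing the first two standard vectors, and a tree showing that 352 distinct
vectors lie in the orbit of the third standard vector under the group they generate.
-/

set_option autoImplicit false
set_option maxRecDepth 100000
set_option Elab.async false

namespace Cfsg.Agent.Helper9.U35

open Cfsg Cfsg.Agent.Helper9.Golay Cfsg.Agent.Helper9.Leech Cfsg.Agent.Helper9.LeechAct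

/-- the word of one of the five further elements. -/
def hw (c : ℕ) : List LLet := gwD.getD c []

theorem gwD_ok : gwD.all (fun w => w.all letOK) = true := by decide +kernel

theorem hw_ok (c : ℕ) : ∀ l ∈ hw c, letOK l = true := getD_ok gwD_ok c

theorem hfix_all :
    ∀ c, c < 5 → (wordL (hw c) alVA == alVA && wordL (hw c) alWA == alWA) = true := by
  decide +kernel

theorem hw_fix {c : ℕ} (hc : c < 5) : wordEl (hw c) vA = vA ∧ wordEl (hw c) wA = wA := by
  have h := hfix_all c hc
  rw [Bool.and_eq_true, beq_iff_eq, beq_iff_eq] at h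
  exact ⟨fix_of_list (hw_ok c) vA_eq h.1, fix_of_list (hw_ok c) wA_eq h.2⟩

/-- the coordinates of the vectors of the orbit. -/
def ptsZ (i : ℕ) : List ℤ := dec8 (ptsN.getD i [])

theorem root_chk : ptsZ 0 = alX0 := by decide +kernel

theorem tree_chk : (List.range 352).all (fun i => (i == 0) ||
    (decide (parD.getD i 0 < i) && decide (ltD.getD i 0 < 5) &&
      (wordL (hw (ltD.getD i 0)) (ptsZ (parD.getD i 0)) == ptsZ i))) = true := by
  decide +kernel

theorem len_chk : (List.range 352).all (fun i => (ptsZ i).length == 24) = true := by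
  decide +kernel

theorem nodup_chk : ((List.range 352).map ptsZ).Nodup := by decide +kernel

theorem ptsZ_length {i : ℕ} (hi : i < 352) : (ptsZ i).length = 24 := by
  have h := List.all_eq_true.mp len_chk i (List.mem_range.mpr hi)
  exact beq_iff_eq.mp h

/-- the vectors of the tree are in the orbit of the third standard vector under the stabiliser
of the first two. -/
theorem tree_orbit : ∀ i, i < 352 → ∃ g : ↥Co0, g • vA = vA ∧ g • wA = wA ∧
    ((g • x0 : ↥leechLattice) : GolayPt → ℤ) = toVec (ptsZ i) := by
  intro i
  induction i using Nat.strong_induction_on with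
  | _ i ih =>
    intro hi
    have h := List.all_eq_true.mp tree_chk i (List.mem_range.mpr hi)
    rw [Bool.or_eq_true] at h
    rcases h with h | h
    · rw [beq_iff_eq] at h
      subst h
      refine ⟨1, one_smul _ _, one_smul _ _, ?_⟩
      rw [one_smul, root_chk]
      rfl
    · rw [Bool.and_eq_true, Bool.and_eq_true, decide_eq_true_iff, decide_eq_true_iff,
        beq_iff_eq] at h
      obtain ⟨⟨hp, hl⟩, hw1⟩ := h
      obtain ⟨g, hg1, hg2, hg3⟩ := ih _ hp (by omega)
      have hfix := hw_fix hl
      refine ⟨⟨wordEl (hw (ltD.getD i 0)), wordEl_mem _⟩ * g, ?_, ?_, ?_⟩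
      · rw [mul_smul, hg1]
        exact hfix.1
      · rw [mul_smul, hg2]
        exact hfix.2
      · rw [mul_smul]
        show ((wordEl (hw (ltD.getD i 0)) (g • x0) : ↥leechLattice) : GolayPt → ℤ) = _
        rw [wordEl_apply (hw_ok _) hg3, hw1]

theorem ptsZ_inj {i j : ℕ} (hi : i < 352) (hj : j < 352) (h : toVec (ptsZ i) = toVec (ptsZ j)) :
    i = j := by
  have e1 := pts_map_toVec (ptsZ i) (ptsZ_length hi)
  have e2 := pts_map_toVec (ptsZ j) (ptsZ_length hj)
  have e3 : ptsZ i = ptsZ j := by rw [← e1, ← e2, h]
  have hnd := nodup_chk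
  have hi' : i < ((List.range 352).map ptsZ).length := by simpa using hi
  have hj' : j < ((List.range 352).map ptsZ).length := by simpa using hj
  have := (List.Nodup.getElem_inj_iff hnd (hi := hi') (hj := hj')).mp (by simpa using e3)
  exact this

end Cfsg.Agent.Helper9.U35
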