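import Mathlib
import Cfsg.Agent.Helper9.U35.LWord
import Cfsg.Agent.Helper9.U35.LRelD

/-!
# The stabiliser of three vectors isomorphic to `PSU₃(5)`: the relators

Kernel checks of the 17 relators on the 24 vectors with one coordinate 8.
-/

set_option autoImplicit false
set_option maxRecDepth 100000
set_option Elab.async false

namespace Cfsg.Agent.Helper9.U35

open Cfsg Cfsg.Agent.Helper9.Golay Cfsg.Agent.Helper9.Leech Cfsg.Agent.Helper9.LeechAct

theorem relChk_0 : relChk (relsD.getD 0 []) trD0 = true := by decide +kernel

theorem relChk_1 : relChk (relsD.getD 1 []) trD1 = true := by decide +kernel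

theorem relChk_2 : relChk (relsD.getD 2 []) trD2 = true := by decide +kernel

theorem relChk_3 : relChk (relsD.getD 3 []) trD3 = true := by decide +kernel

theorem relChk_4 : relChk (relsD.getD 4 []) trD4 = true := by decide +kernel

theorem relChk_5 : relChk (relsD.getD 5 []) trD5 = true := by decide +kernel

theorem relChk_6 : relChk (relsD.getD 6 []) trD6 = true := by decide +kernel

theorem relChk_7 : relChk (relsD.getD 7 []) trD7 = true := by decide +kernel

theorem relChk_8 : relChk (relsD.getD 8 []) trD8 = true := by decide +kernel

theorem relChk_9 : relChk (relsD.getD 9 []) trD9 = true := by decide +kernel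

theorem relChk_10 : relChk (relsD.getD 10 []) trD10 = true := by decide +kernel

theorem relChk_11 : relChk (relsD.getD 11 []) trD11 = true := by decide +kernel

theorem relChk_12 : relChk (relsD.getD 12 []) trD12 = true := by decide +kernel

theorem relChk_13 : relChk (relsD.getD 13 []) trD13 = true := by decide +kernel

theorem relChk_14 : relChk (relsD.getD 14 []) trD14 = true := by decide +kernel

theorem relChk_15 : relChk (relsD.getD 15 []) trD15 = true := by decide +kernel

theorem relChk_16 : relChk (relsD.getD 16 []) trD16 = true := by decide +kernel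

theorem relsD_eq : relsD = C2 ++ [List.replicate (mm 0) 0, List.replicate (mm 1) 2,
    List.replicate (mm 2) 4] ++ [[0, 1], [2, 3], [4, 5]] := by decide

theorem rel_gw : ∀ j, j < 17 → ((relsD.getD j []).map gw).prod = 1 := by
  intro j hj
  interval_cases j
  · exact prod_eq_one_of_relChk relChk_0
  · exact prod_eq_one_of_relChk relChk_1
  · exact prod_eq_one_of_relChk relChk_2
  · exact prod_eq_one_of_relChk relChk_3
  · exact prod_eq_one_of_relChk relChk_4
  · exact prod_eq_one_of_relChk relChk_5
  · exact prod_eq_one_of_relChk relChk_6
  · exact prod_eq_one_of_relChk relChk_7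
  · exact prod_eq_one_of_relChk relChk_8
  · exact prod_eq_one_of_relChk relChk_9
  · exact prod_eq_one_of_relChk relChk_10
  · exact prod_eq_one_of_relChk relChk_11
  · exact prod_eq_one_of_relChk relChk_12
  · exact prod_eq_one_of_relChk relChk_13
  · exact prod_eq_one_of_relChk relChk_14
  · exact prod_eq_one_of_relChk relChk_15
  · exact prod_eq_one_of_relChk relChk_16

theorem rel_mem {r : List ℕ} (hr : r ∈ relsD) : (r.map gw).prod = 1 := by
  obtain ⟨j, hj, rfl⟩ := List.getElem_of_mem hr
  have h := rel_gw j (by simpa [relsD] using hj)
  rwa [List.getD_eq_getElem _ _ hj] at h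

theorem rel_C2 : ∀ r ∈ C2 ++ C2, (r.map gw).prod = 1 := by
  intro r hr
  apply rel_mem
  rw [relsD_eq]
  rcases List.mem_append.mp hr with h | h <;>
    exact List.mem_append_left _ (List.mem_append_left _ h)

theorem pow_gw : ∀ i, i < 3 → gw (2 * i) ^ mm i = 1 := by
  intro i hi
  have h : List.replicate (mm i) (2 * i) ∈ relsD := by
    rw [relsD_eq]
    apply List.mem_append_left
    apply List.mem_append_right
    interval_cases i <;> simp
  have h2 := rel_mem h
  rwa [List.map_replicate, List.prod_replicate] at h2

theorem gw_mul_inv : ∀ i, i < 3 → gw (2 * i) * gw (2 * i + 1) = 1 := by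
  intro i hi
  have h : [2 * i, 2 * i + 1] ∈ relsD := by
    rw [relsD_eq]
    apply List.mem_append_right
    interval_cases i <;> simp
  have h2 := rel_mem h
  simpa using h2

end Cfsg.Agent.Helper9.U35
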