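import Mathlib
import Cfsg.Agent.Helper9.U35.Iso
import Cfsg.Agent.Helper9.U35.LRel
import Cfsg.Agent.Helper9.U35.LOrb
import Cfsg.Agent.Helper9.Leech.HSSimple3
import Cfsg.Agent.Helper5.SimpleHom
import Cfsg.Agent.S0827

/-!
# The 352 vectors attached to a pair of vectors of sum of squares 48, and `PSU₃(5)`

For `v`, `w` of sum of squares 48 with inner product `-32` the minimal vectors `x` with inner
products 16 with `v` and `-24` with `w` number 352, they form one orbit of the stabiliser of `v`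
and `w`, and the stabiliser of `v`, `w`, `x` is isomorphic to `PSU₃(5)`.
-/

set_option autoImplicit false

namespace Cfsg.Agent.Helper9.U35

open Cfsg Cfsg.Agent.Helper9.Golay Cfsg.Agent.Helper9.Leech Cfsg.Agent.Helper9.LeechAct
  Cfsg.Agent.Helper5.StemP Cfsg.Agent.Helper5.LP

/-- the set of the 352 vectors. -/
def S352 (v w : ↥leechLattice) : Set ↥leechLattice :=
  {x : ↥leechLattice | sqNorm (x : GolayPt → ℤ) = 32 ∧
    dotInt (v : GolayPt → ℤ) (x : GolayPt → ℤ) = 16 ∧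
    dotInt (w : GolayPt → ℤ) (x : GolayPt → ℤ) = -24}

/-! ### the number of the vectors -/

set_option maxRecDepth 100000 in
theorem cnt_352 : cntFast alHS (-23984) = 352 := by decide +kernel

theorem card_352 (v w : ↥leechLattice) (hv : sqNorm (v : GolayPt → ℤ) = 48)
    (hw : sqNorm (w : GolayPt → ℤ) = 48)
    (hvw : dotInt (v : GolayPt → ℤ) (w : GolayPt → ℤ) = -32) : (S352 v w).ncard = 352 := by
  obtain ⟨g, hg1, hg2⟩ := trans_hs_pair v w ustd wstd hv hw hvw sqNorm_ustd sqNorm_wstd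
    dot_ustd_wstd
  unfold S352
  rw [ncard_smul2 g v w 32 16 (-24), hg1, hg2, ustd_eq, wstd_eq]
  have e : {x : ↥leechLattice | sqNorm (x : GolayPt → ℤ) = 32 ∧
        dotInt (toVec alU) (x : GolayPt → ℤ) = 16 ∧
        dotInt (toVec alW) (x : GolayPt → ℤ) = -24} =
      {x : ↥leechLattice | sqNorm (x : GolayPt → ℤ) = 32 ∧
        dotInt (toVec alHS) (x : GolayPt → ℤ) = -23984} := by
    ext x
    rw [Set.mem_ofPred_eq, Set.mem_ofPred_eq, alHS_eq]
    constructor
    · rintro ⟨h1, h2⟩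
      refine ⟨h1, ?_⟩
      have := (combo_iff (toVec alU) (toVec alW) (x : GolayPt → ℤ) 16 (-24)
        (by rw [← ustd_eq, sqNorm_ustd]) h1 (by norm_num) (by norm_num)).mpr h2
      rw [this]
      norm_num
    · rintro ⟨h1, h2⟩
      refine ⟨h1, ?_⟩
      exact (combo_iff (toVec alU) (toVec alW) (x : GolayPt → ℤ) 16 (-24)
        (by rw [← ustd_eq, sqNorm_ustd]) h1 (by norm_num) (by norm_num)).mp
        (by rw [h2]; norm_num)
  rw [e, ncard_sub_eq (fun x => sqNorm x = 32 ∧ dotInt (toVec alHS) x = -23984)]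
  exact ncard_min_dot' alHS rfl (-23984) 352 cnt_352

/-! ### the closure under `x ↦ -w - x` -/

theorem neg_sub_mem (v w x : ↥leechLattice) (hw : sqNorm (w : GolayPt → ℤ) = 48)
    (hvw : dotInt (v : GolayPt → ℤ) (w : GolayPt → ℤ) = -32) (hx : x ∈ S352 v w) :
    -w - x ∈ S352 v w := by
  obtain ⟨h1, h2, h3⟩ := hx
  have e : ((-w - x : ↥leechLattice) : GolayPt → ℤ) =
      (0 : GolayPt → ℤ) - ((w : GolayPt → ℤ) + (x : GolayPt → ℤ)) := by
    funext p
    show -((w : GolayPt → ℤ) p) - (x : GolayPt → ℤ) p = 0 - ((w : GolayPt → ℤ) p + (x : GolayPt → ℤ) p)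
    ring
  have e0 : sqNorm (0 : GolayPt → ℤ) = 0 := by
    unfold sqNorm
    simp
  have e1 : ∀ z : GolayPt → ℤ, dotInt (0 : GolayPt → ℤ) z = 0 := by
    intro z
    unfold dotInt
    simp
  have e2 : ∀ z : GolayPt → ℤ, dotInt z (0 : GolayPt → ℤ) = 0 := by
    intro z
    unfold dotInt
    simp
  refine ⟨?_, ?_, ?_⟩
  · rw [e, sqNorm_sub', e0, e1, sqNorm_add', hw, h1, h3]
    norm_num
  · rw [e, dot_sub_right, e2, dot_add_right, hvw, h2]
    norm_num
  · rw [e, dot_sub_right, e2, dot_add_right, dot_self, hw, h3]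
    norm_num

/-! ### moving the set -/

theorem smul_mem_S352 (g : ↥Co0) {v w x : ↥leechLattice} (hx : x ∈ S352 v w) :
    g • x ∈ S352 (g • v) (g • w) := by
  obtain ⟨h1, h2, h3⟩ := hx
  exact ⟨(co0_sqNorm g x).trans h1, (co0_dot g v x).trans h2, (co0_dot g w x).trans h3⟩

/-! ### the standard configuration -/

theorem x0_mem : x0 ∈ S352 vA wA := by
  refine ⟨?_, ?_, ?_⟩
  · rw [x0_eq, sqNorm_toVec alX0 rfl]
    decide
  · rw [vA_eq, x0_eq, dot_toVec]
    decide
  · rw [wA_eq, x0_eq, dot_toVec]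
    decide

/-- the vectors of the tree. -/
noncomputable def treePt (i : Fin 352) : ↥leechLattice :=
  (Classical.choose (tree_orbit i.val i.isLt)) • x0

theorem treePt_spec (i : Fin 352) : ∃ g : ↥Co0, g • vA = vA ∧ g • wA = wA ∧ g • x0 = treePt i ∧
    ((treePt i : ↥leechLattice) : GolayPt → ℤ) = toVec (ptsZ i.val) := by
  have h := Classical.choose_spec (tree_orbit i.val i.isLt)
  exact ⟨_, h.1, h.2.1, rfl, h.2.2⟩

theorem treePt_injective : Function.Injective treePt := by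
  intro i j h
  obtain ⟨_, _, _, _, hi⟩ := treePt_spec i
  obtain ⟨_, _, _, _, hj⟩ := treePt_spec j
  apply Fin.ext
  apply ptsZ_inj i.isLt j.isLt
  rw [← hi, ← hj, h]

theorem treePt_mem (i : Fin 352) : treePt i ∈ S352 vA wA := by
  obtain ⟨g, h1, h2, h3, _⟩ := treePt_spec i
  have := smul_mem_S352 g x0_mem
  rwa [h1, h2, h3] at this

theorem range_treePt : Set.range treePt = S352 vA wA := by
  have hcard := card_352 vA wA sqNorm_vA sqNorm_wA dot_vA_wA
  have hfin : (S352 vA wA).Finite := Set.finite_of_ncard_ne_zero (by rw [hcard]; norm_num)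
  apply Set.eq_of_subset_of_ncard_le _ _ hfin
  · rintro _ ⟨i, rfl⟩
    exact treePt_mem i
  · rw [hcard, ← Set.image_univ, Set.ncard_image_of_injective _ treePt_injective, Set.ncard_univ,
      Nat.card_fin]

/-- the stabiliser of the standard pair is transitive on the 352 vectors. -/
theorem std_trans {y : ↥leechLattice} (hy : y ∈ S352 vA wA) :
    ∃ g : ↥Co0, g • vA = vA ∧ g • wA = wA ∧ g • x0 = y := by
  rw [← range_treePt] at hy
  obtain ⟨i, rfl⟩ := hy
  obtain ⟨g, h1, h2, h3, _⟩ := treePt_spec i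
  exact ⟨g, h1, h2, h3⟩

/-- moving a configuration to the standard one. -/
theorem to_std (v w x : ↥leechLattice) (hv : sqNorm (v : GolayPt → ℤ) = 48)
    (hw : sqNorm (w : GolayPt → ℤ) = 48)
    (hvw : dotInt (v : GolayPt → ℤ) (w : GolayPt → ℤ) = -32) (hx : x ∈ S352 v w) :
    ∃ g : ↥Co0, g • v = vA ∧ g • w = wA ∧ g • x = x0 := by
  obtain ⟨g1, h1, h2⟩ := trans_hs_pair v w vA wA hv hw hvw sqNorm_vA sqNorm_wA dot_vA_wA
  have hx1 := smul_mem_S352 g1 hx
  rw [h1, h2] at hx1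
  obtain ⟨h, k1, k2, k3⟩ := std_trans hx1
  refine ⟨h⁻¹ * g1, ?_, ?_, ?_⟩
  · rw [mul_smul, h1, inv_smul_eq_iff, k1]
  · rw [mul_smul, h2, inv_smul_eq_iff, k2]
  · rw [mul_smul, inv_smul_eq_iff, k3]

/-- the stabiliser of a pair is transitive on the 352 vectors. -/
theorem trans_352 (v w x x' : ↥leechLattice) (hv : sqNorm (v : GolayPt → ℤ) = 48)
    (hw : sqNorm (w : GolayPt → ℤ) = 48)
    (hvw : dotInt (v : GolayPt → ℤ) (w : GolayPt → ℤ) = -32) (hx : x ∈ S352 v w)
    (hx' : x' ∈ S352 v w) : ∃ g : ↥Co0, g • v = v ∧ g • w = w ∧ g • x = x' := by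
  obtain ⟨g, h1, h2, h3⟩ := to_std v w x hv hw hvw hx
  obtain ⟨g', h1', h2', h3'⟩ := to_std v w x' hv hw hvw hx'
  refine ⟨g'⁻¹ * g, ?_, ?_, ?_⟩
  · rw [mul_smul, h1, inv_smul_eq_iff, h1']
  · rw [mul_smul, h2, inv_smul_eq_iff, h2']
  · rw [mul_smul, h3, inv_smul_eq_iff, h3']

/-! ### the stabiliser of three vectors -/

/-- the stabiliser of three vectors. -/
abbrev stab3 (u v x : ↥leechLattice) : Subgroup ↥Co0 :=
  MulAction.stabilizer ↥Co0 u ⊓ MulAction.stabilizer ↥Co0 v ⊓ MulAction.stabilizer ↥Co0 x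

/-- the stabiliser of the third vector in the stabiliser of the first two. -/
def stabEquiv (u v x : ↥leechLattice) : ↥(MulAction.stabilizer
    ↥(MulAction.stabilizer ↥Co0 u ⊓ MulAction.stabilizer ↥Co0 v) x) ≃ ↥(stab3 u v x) where
  toFun k := ⟨k.1.1, ⟨k.1.2, k.2⟩⟩
  invFun s := ⟨⟨s.1, s.2.1⟩, s.2.2⟩
  left_inv _ := rfl
  right_inv _ := rfl

theorem orbit_eq : MulAction.orbit
    ↥(MulAction.stabilizer ↥Co0 vA ⊓ MulAction.stabilizer ↥Co0 wA) x0 = S352 vA wA := by
  ext y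
  constructor
  · rintro ⟨k, rfl⟩
    obtain ⟨k0, hk⟩ := k
    rw [Subgroup.mem_inf, MulAction.mem_stabilizer_iff, MulAction.mem_stabilizer_iff] at hk
    have := smul_mem_S352 k0 x0_mem
    rw [hk.1, hk.2] at this
    exact this
  · intro hy
    obtain ⟨g, h1, h2, h3⟩ := std_trans hy
    exact ⟨⟨g, Subgroup.mem_inf.mpr ⟨MulAction.mem_stabilizer_iff.mpr h1,
      MulAction.mem_stabilizer_iff.mpr h2⟩⟩, h3⟩

/-- the stabiliser of the standard triple. -/
abbrev SS : Subgroup ↥Co0 := stab3 vA wA x0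

set_option maxRecDepth 100000 in
theorem card_SS : Nat.card ↥SS = 126000 := by
  have h4 := Subgroup.card_mul_index (MulAction.stabilizer
    ↥(MulAction.stabilizer ↥Co0 vA ⊓ MulAction.stabilizer ↥Co0 wA) x0)
  rw [MulAction.index_stabilizer, orbit_eq, card_352 vA wA sqNorm_vA sqNorm_wA dot_vA_wA,
    (hs_simple_card vA wA sqNorm_vA sqNorm_wA dot_vA_wA).2,
    Nat.card_congr (stabEquiv vA wA x0)] at h4
  show Nat.card ↥(stab3 vA wA x0) = 126000
  omega

instance finite_SS : Finite ↥SS := Nat.finite_of_card_ne_zero (by rw [card_SS]; norm_num)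

/-- conjugation between the stabilisers of two triples in the same orbit. -/
def conjEquiv (g : ↥Co0) {u v x u' v' x' : ↥leechLattice} (hu : g • u = u') (hv : g • v = v')
    (hx : g • x = x') : ↥(stab3 u v x) ≃* ↥(stab3 u' v' x') where
  toFun k := ⟨g * k.1 * g⁻¹, by
    have hk := k.2
    rw [Subgroup.mem_inf, Subgroup.mem_inf, MulAction.mem_stabilizer_iff,
      MulAction.mem_stabilizer_iff, MulAction.mem_stabilizer_iff] at hk ⊢
    refine ⟨⟨?_, ?_⟩, ?_⟩
    · rw [← hu, mul_smul, mul_smul, inv_smul_smul, hk.1.1]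
    · rw [← hv, mul_smul, mul_smul, inv_smul_smul, hk.1.2]
    · rw [← hx, mul_smul, mul_smul, inv_smul_smul, hk.2]⟩
  invFun k := ⟨g⁻¹ * k.1 * g, by
    have hk := k.2
    rw [Subgroup.mem_inf, Subgroup.mem_inf, MulAction.mem_stabilizer_iff,
      MulAction.mem_stabilizer_iff, MulAction.mem_stabilizer_iff] at hk ⊢
    refine ⟨⟨?_, ?_⟩, ?_⟩
    · rw [mul_smul, mul_smul, hu, hk.1.1, ← hu, inv_smul_smul]
    · rw [mul_smul, mul_smul, hv, hk.1.2, ← hv, inv_smul_smul]
    · rw [mul_smul, mul_smul, hx, hk.2, ← hx, inv_smul_smul]⟩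
  left_inv k := by
    apply Subtype.ext
    show g⁻¹ * (g * k.1 * g⁻¹) * g = k.1
    group
  right_inv k := by
    apply Subtype.ext
    show g * (g⁻¹ * k.1 * g) * g⁻¹ = k.1
    group
  map_mul' k k' := by
    apply Subtype.ext
    show g * (k.1 * k'.1) * g⁻¹ = (g * k.1 * g⁻¹) * (g * k'.1 * g⁻¹)
    group

/-! ### the generators in the stabiliser of the standard triple -/

/-- the automorphism of a letter, in the group of automorphisms. -/
def gC (c : ℕ) : ↥Co0 := ⟨gw c, gw_mem c⟩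

theorem gC_mem {c : ℕ} (hc : c < 6) : gC c ∈ SS := by
  rw [Subgroup.mem_inf, Subgroup.mem_inf, MulAction.mem_stabilizer_iff,
    MulAction.mem_stabilizer_iff, MulAction.mem_stabilizer_iff]
  obtain ⟨h1, h2, h3⟩ := gw_fix hc
  exact ⟨⟨h1, h2⟩, h3⟩

/-- the letters, in the stabiliser. -/
def gS (c : ℕ) : ↥SS := if h : c < 6 then ⟨gC c, gC_mem h⟩ else 1

theorem coe_gS {c : ℕ} (hc : c < 6) :
    (((gS c : ↥SS) : ↥Co0) : Equiv.Perm ↥leechLattice) = gw c := by
  unfold gS
  rw [dif_pos hc]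
  rfl

/-- the generators. -/
def gen (i : ℕ) : ↥SS := gS (2 * i)

theorem gS_mul_inv {i : ℕ} (hi : i < 3) : gS (2 * i) * gS (2 * i + 1) = 1 := by
  apply Subtype.ext
  apply Subtype.ext
  rw [Subgroup.coe_mul, Subgroup.coe_mul, coe_gS (by omega), coe_gS (by omega), gw_mul_inv i hi]
  rfl

theorem lval_gS : ∀ c, c < 6 → lval gen c = gS c := by
  intro c hc
  obtain ⟨i, rfl | rfl⟩ : ∃ i, c = 2 * i ∨ c = 2 * i + 1 := ⟨c / 2, by omega⟩
  · rw [lval_even]
    rfl
  · rw [lval_odd]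
    have h := eq_inv_of_mul_eq_one_right (gS_mul_inv (i := i) (by omega))
    rw [h]
    rfl

theorem word_coe : ∀ l : List ℕ, (∀ c ∈ l, c < 6) →
    ((((l.map (lval gen)).prod : ↥SS) : ↥Co0) : Equiv.Perm ↥leechLattice) = (l.map gw).prod
  | [], _ => rfl
  | c :: l, h => by
    rw [List.map_cons, List.prod_cons, List.map_cons, List.prod_cons, Subgroup.coe_mul,
      Subgroup.coe_mul, word_coe l (fun c hc => h c (List.mem_cons_of_mem _ hc)),
      lval_gS c (h c List.mem_cons_self), coe_gS (h c List.mem_cons_self)]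

theorem C22_relS : ∀ r ∈ C2 ++ C2, (r.map (lval gen)).prod = 1 := by
  intro r hr
  apply Subtype.ext
  apply Subtype.ext
  rw [word_coe r (C22_lt r hr), rel_C2 r hr]
  rfl

theorem gen_pow : ∀ i, i < 3 → gen i ^ mm i = 1 := by
  intro i hi
  apply Subtype.ext
  apply Subtype.ext
  unfold gen
  rw [SubmonoidClass.coe_pow, SubmonoidClass.coe_pow, coe_gS (by omega), pow_gw i hi]
  rfl

/-- the homomorphism from the presented group. -/
noncomputable def psi : P35 →* ↥SS := coverHomU 3 mm C2 C2 1 C22_lt gen gen_pow C22_relS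

theorem psi_ev (l : List ℕ) (hl : ∀ c ∈ l, c < 2 * 3) :
    psi (ev (2 * 3) (coverRels 3 mm C2 C2 1) l) = (l.map (lval gen)).prod :=
  coverHomU_ev 3 mm C2 C2 1 C22_lt gen gen_pow C22_relS l hl

theorem psi_injective : Function.Injective psi := by
  apply Cfsg.Agent.Helper5.SimpleHom.injective_of_simple psi (ev (2 * 3) (coverRels 3 mm C2 C2 1) [0])
  rw [psi_ev [0] (by decide)]
  intro h
  have h1 : gS 0 = 1 := by
    have : lval gen 0 = gS 0 := lval_gS 0 (by norm_num)
    simpa [this] using h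
  have h2 : (((gS 0 : ↥SS) : ↥Co0) : Equiv.Perm ↥leechLattice) = 1 := by
    rw [h1]
    rfl
  rw [coe_gS (by norm_num)] at h2
  exact gw0_ne_one h2

/-- the presented group is the stabiliser of the standard triple. -/
noncomputable def isoS : P35 ≃* ↥SS :=
  MulEquiv.ofBijective psi (psi_injective.bijective_of_nat_card_le (by
    rw [card_SS, card_P35]))

/-- **The stabiliser of the three vectors is `PSU₃(5)`.** -/
theorem stab_iso (v w x : ↥leechLattice) (hv : sqNorm (v : GolayPt → ℤ) = 48)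
    (hw : sqNorm (w : GolayPt → ℤ) = 48)
    (hvw : dotInt (v : GolayPt → ℤ) (w : GolayPt → ℤ) = -32) (hx : x ∈ S352 v w)
    (F : Type) [Field F] [Fintype F] (hF : Fintype.card F = 25) :
    Nonempty (↥(stab3 v w x) ≃* Cfsg.PSU 3 F 5) := by
  obtain ⟨g, h1, h2, h3⟩ := to_std v w x hv hw hvw hx
  have e : F25 ≃+* F := FiniteField.ringEquivOfCardEq (F25.card_eq.trans hF.symm)
  exact ⟨(conjEquiv g h1 h2 h3).trans (isoS.symm.trans (isoP.trans
    (Cfsg.Agent.S0827.psuEquiv e 3 5)))⟩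

end Cfsg.Agent.Helper9.U35
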